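import Mathlib
import Groth.Agent.Lib.Helper5.Car.Car9
import Groth.Agent.Lib.Helper2.DimFG

set_option autoImplicit false
universe u

open TensorProduct IsLocalRing KaehlerDifferential

namespace Groth.Agent.H5.OmegaDim

section semicont
variable {A : Type*} [CommRing A] (M : Type*) [AddCommGroup M] [Module A M] [Module.Finite A M]

/-- if `f : F → M` becomes surjective after tensoring with `κ(P)`, and `q ≤ P`, it is surjective
after tensoring with `κ(q)`. -/
theorem surjective_lTensor_of_le {F : Type*} [AddCommGroup F] [Module A F] (f : F →ₗ[A] M)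
    (P q : Ideal A) [P.IsPrime] [q.IsPrime] (hqP : q ≤ P)
    (hP : Function.Surjective (f.lTensor P.ResidueField)) :
    Function.Surjective (f.lTensor q.ResidueField) := by
  set C := M ⧸ LinearMap.range f with hC
  have hex : Function.Exact f (LinearMap.range f).mkQ := by
    rw [LinearMap.exact_iff, Submodule.ker_mkQ]
  have hsurj : Function.Surjective (LinearMap.range f).mkQ := Submodule.mkQ_surjective _
  have hP' : Subsingleton (P.ResidueField ⊗[A] C) := by
    have h1 := lTensor_exact P.ResidueField hex hsurj
    have h2 : Function.Surjective ((LinearMap.range f).mkQ.lTensor P.ResidueField) :=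
      LinearMap.lTensor_surjective _ hsurj
    refine ⟨fun a b => ?_⟩
    obtain ⟨a, rfl⟩ := h2 a
    obtain ⟨b, rfl⟩ := h2 b
    obtain ⟨a, rfl⟩ := hP a
    obtain ⟨b, rfl⟩ := hP b
    rw [(h1 _).mpr ⟨a, rfl⟩, (h1 _).mpr ⟨b, rfl⟩]
  have hPs : (⟨P, inferInstance⟩ : PrimeSpectrum A) ∉ Module.support A C := by
    rw [Module.mem_support_iff_nontrivial_residueField_tensorProduct]
    exact not_nontrivial_iff_subsingleton.mpr hP'
  have hqs : (⟨q, inferInstance⟩ : PrimeSpectrum A) ∉ Module.support A C := by
    intro h
    exact hPs (Module.mem_support_mono (p := ⟨q, inferInstance⟩) (q := ⟨P, inferInstance⟩) hqP h)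
  have hq' : Subsingleton (q.ResidueField ⊗[A] C) := by
    rw [Module.mem_support_iff_nontrivial_residueField_tensorProduct] at hqs
    exact not_nontrivial_iff_subsingleton.mp hqs
  have h1 := lTensor_exact q.ResidueField hex hsurj
  intro y
  exact (h1 y).mp (Subsingleton.elim _ _)

/-- upper semicontinuity of fibre dimension along specialization. -/
theorem finrank_fiber_le_of_le (P q : Ideal A) [P.IsPrime] [q.IsPrime] (hqP : q ≤ P) :
    Module.finrank q.ResidueField (q.ResidueField ⊗[A] M) ≤
      Module.finrank P.ResidueField (P.ResidueField ⊗[A] M) := by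
  classical
  set K := P.ResidueField
  set V := K ⊗[A] M
  let s : Set V := Set.range (fun m : M => (1 : K) ⊗ₜ[A] m)
  have hs : ⊤ ≤ Submodule.span K s := by
    rw [top_le_iff, eq_top_iff]
    rintro x -
    induction x using TensorProduct.induction_on with
    | zero => exact zero_mem _
    | tmul a m =>
      have : a ⊗ₜ[A] m = a • ((1 : K) ⊗ₜ[A] m) := by
        rw [TensorProduct.smul_tmul', smul_eq_mul, mul_one]
      rw [this]
      exact Submodule.smul_mem _ _ (Submodule.subset_span ⟨m, rfl⟩)
    | add x y hx hy => exact add_mem hx hy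
  obtain ⟨ι, _, b, hmem⟩ : ∃ (ι : Type _) (_ : Fintype ι) (b : Module.Basis ι K V),
      ∀ i, ∃ m : M, (1 : K) ⊗ₜ[A] m = b i := by
    let b := Module.Basis.ofSpan hs
    haveI : Finite _ := Module.Finite.finite_basis b
    exact ⟨_, Fintype.ofFinite _, b, fun i =>
      Module.Basis.ofSpan_subset hs (Set.mem_range_self (f := b) i)⟩
  have hcard : Module.finrank K V = Fintype.card ι := Module.finrank_eq_card_basis b
  choose g hg using hmem
  let f : (ι →₀ A) →ₗ[A] M := Finsupp.linearCombination A g
  have hP : Function.Surjective (f.lTensor K) := by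
    have : Function.Surjective (f.baseChange K) := by
      rw [← LinearMap.range_eq_top, eq_top_iff, ← b.span_eq, Submodule.span_le]
      rintro _ ⟨i, rfl⟩
      refine ⟨(1 : K) ⊗ₜ[A] Finsupp.single i 1, ?_⟩
      rw [LinearMap.baseChange_tmul, ← hg i]
      simp [f]
    exact this
  have hq := surjective_lTensor_of_le M f P q hqP hP
  have hq' : Function.Surjective (f.baseChange q.ResidueField) := hq
  have h1 := LinearMap.finrank_le_finrank_of_surjective hq'
  haveI : Nontrivial A := (algebraMap A P.ResidueField).domain_nontrivial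
  have h2 : Module.finrank q.ResidueField (q.ResidueField ⊗[A] (ι →₀ A)) = Fintype.card ι := by
    rw [Module.finrank_baseChange, Module.finrank_finsupp_self]
  rw [hcard, ← h2]
  exact h1

end semicont


section main
variable (k : Type u) [Field k] (A : Type u) [CommRing A] [Algebra k A]

theorem formallyUnramified_residueField (q : Ideal A) [q.IsPrime] :
    Algebra.FormallyUnramified A q.ResidueField := by
  haveI : Algebra.FormallyUnramified A (Localization.AtPrime q) :=
    Algebra.FormallyUnramified.of_isLocalization q.primeCompl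
  haveI : Algebra.FormallyUnramified (Localization.AtPrime q) q.ResidueField :=
    Algebra.FormallyUnramified.of_surjective (Algebra.ofId _ _) IsLocalRing.residue_surjective
  exact Algebra.FormallyUnramified.comp A (Localization.AtPrime q) q.ResidueField

theorem mapBaseChange_surjective_residueField (q : Ideal A) [q.IsPrime] :
    Function.Surjective (KaehlerDifferential.mapBaseChange k A q.ResidueField) := by
  haveI := formallyUnramified_residueField A q
  have hex := KaehlerDifferential.exact_mapBaseChange_map k A q.ResidueField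
  intro y
  exact (hex y).mp (Subsingleton.elim _ _)

theorem trdeg_residueField (q : Ideal A) [q.IsPrime] :
    Algebra.trdeg k q.ResidueField = Algebra.trdeg k (A ⧸ q) := by
  haveI : IsDomain (A ⧸ q) := Ideal.Quotient.isDomain q
  have : Algebra.IsAlgebraic (A ⧸ q) q.ResidueField :=
    IsLocalization.isAlgebraic q.ResidueField (nonZeroDivisors (A ⧸ q))
  have h := trdeg_add_eq k (A ⧸ q) (A := q.ResidueField)
  rw [trdeg_eq_zero (R := A ⧸ q) (A := q.ResidueField), add_zero] at h
  exact h.symm

variable [Algebra.FiniteType k A]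

theorem main (n : ℕ)
    (P : Ideal A) [P.IsPrime] (q : Ideal A) [q.IsPrime] (hqP : q ≤ P)
    (hq : (n : WithBot ℕ∞) ≤ ringKrullDim (A ⧸ q)) :
    n ≤ Module.finrank P.ResidueField (P.ResidueField ⊗[A] (Ω[A⁄k])) := by
  haveI : IsDomain (A ⧸ q) := Ideal.Quotient.isDomain q
  haveI : Algebra.FiniteType k (A ⧸ q) :=
    Algebra.FiniteType.of_surjective (Ideal.Quotient.mkₐ k q) Ideal.Quotient.mk_surjective
  obtain ⟨s, hs1, hs2⟩ := Groth.Agent.H2.DimFG.exists_dim_eq_trdeg k (A ⧸ q)
  rw [hs1] at hq
  have hns : n ≤ s := by exact_mod_cast hq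
  haveI : Algebra.EssFiniteType k q.ResidueField := Algebra.EssFiniteType.comp k A _
  obtain ⟨hfin, -, hle⟩ := Groth.Agent.H5.Car.main4526 (k := k) (K := k) (L := q.ResidueField)
  have h0 : Module.finrank k (Ω[k⁄k]) = 0 := Module.finrank_zero_of_subsingleton
  rw [h0, trdeg_residueField k A q, hs2] at hle
  simp only [Cardinal.toNat_natCast, Nat.cast_zero, sub_zero, Nat.cast_le] at hle
  haveI : Module.Finite A (Ω[A⁄k]) := inferInstance
  have h1 := LinearMap.finrank_le_finrank_of_surjective
    (mapBaseChange_surjective_residueField k A q)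
  have h2 := finrank_fiber_le_of_le (Ω[A⁄k]) P q hqP
  omega

end main

end Groth.Agent.H5.OmegaDim
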